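/-! Data for the classes of subgroups of order three of `PΩ⁺₈(3)`: normal form bases, witnesses as lists
of reflection vectors and triality triples. Found by a search outside Lean; checked in `Check`. -/

set_option autoImplicit false

namespace CfsgLib.O8Three88

/-- The parameters of the eight types. -/
def typePar : List (Nat × Nat × Nat × Nat × Nat) :=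
  [
    (0, 0, 1, 4, 0),
    (0, 0, 2, 0, 0),
    (0, 1, 0, 4, 1),
    (0, 1, 1, 0, 1),
    (1, 0, 0, 5, 0),
    (1, 0, 1, 1, 0),
    (1, 1, 0, 1, 1),
    (2, 0, 0, 2, 0)]

/-- An adapted basis for each type. -/
def baseData : List (List (List Nat)) :=
  [
    [[0,0,1,2,1,0,2,1],[1,2,1,2,2,2,2,0],[1,2,0,0,1,1,1,0],[1,2,0,0,2,0,1,2],[1,0,0,2,2,2,0,0],[0,1,0,1,2,2,1,0],[2,2,2,2,2,1,0,2],[1,0,0,2,0,1,0,1]],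
    [[1,0,0,0,0,2,0,2],[0,0,2,2,0,0,1,0],[1,0,2,2,1,2,2,2],[2,2,1,1,1,0,0,0],[2,2,1,0,1,0,2,2],[2,0,1,2,1,0,2,2],[2,2,1,2,1,0,2,1],[1,0,2,1,2,2,1,2]],
    [[0,0,0,1,2,0,1,0],[1,2,2,1,2,0,1,0],[2,1,2,0,1,2,1,1],[0,0,0,0,0,2,0,1],[0,2,0,0,1,0,2,0],[0,1,1,2,2,2,0,1],[0,0,2,2,2,1,0,2],[1,2,1,0,0,0,0,2]],
    [[0,0,1,0,0,2,0,1],[0,1,2,0,2,2,2,2],[1,2,0,0,0,1,1,1],[1,0,1,0,2,1,1,2],[2,0,1,1,2,0,0,0],[0,2,1,2,2,2,0,2],[0,0,0,2,2,1,2,2],[0,1,0,1,1,1,1,2]],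
    [[0,0,0,0,0,1,2,1],[0,1,1,1,1,1,1,0],[0,1,1,0,1,0,0,0],[0,0,1,1,2,0,2,2],[2,1,0,0,0,0,0,1],[1,1,0,2,1,2,0,1],[1,0,1,2,2,2,1,2],[2,1,2,0,1,2,1,2]],
    [[2,0,1,0,1,0,0,0],[2,1,2,0,0,0,1,1],[2,1,1,0,0,2,2,0],[2,0,1,2,0,0,2,1],[2,2,0,1,0,2,0,1],[1,1,0,0,1,0,2,2],[0,0,0,2,0,0,2,1],[0,2,0,0,1,1,0,0]],
    [[2,0,2,1,0,0,0,2],[0,1,2,0,1,0,0,2],[1,2,1,0,2,0,1,2],[1,0,0,2,1,1,2,2],[1,2,0,2,1,0,0,0],[1,0,1,2,2,1,2,2],[0,2,1,0,1,2,0,0],[1,1,2,2,1,0,1,0]],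
    [[2,0,0,0,2,2,1,0],[0,1,2,0,2,0,1,0],[0,1,0,1,1,0,2,1],[2,0,1,2,1,0,1,0],[0,2,2,0,0,0,0,1],[2,2,1,2,2,1,0,2],[1,2,2,1,1,1,2,2],[0,2,1,1,2,0,1,0]]]

/-- The inverses of the adapted bases. -/
def baseInvData : List (List (List Nat)) :=
  [
    [[2,1,2,2,2,2,0,0],[0,0,1,0,2,2,0,0],[0,2,1,0,0,1,1,1],[1,0,2,1,0,1,1,1],[2,2,2,0,1,2,1,2],[2,2,1,1,0,2,1,0],[0,1,0,0,2,2,1,1],[0,0,2,1,1,0,0,2]],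
    [[0,2,2,1,0,2,2,1],[2,2,2,1,0,1,1,2],[1,0,1,0,0,0,0,1],[2,2,2,1,1,0,1,2],[2,2,1,2,2,0,2,0],[1,1,1,2,0,2,1,0],[0,0,0,1,1,0,1,0],[1,1,1,2,0,0,1,1]],
    [[0,2,1,2,0,1,1,0],[2,2,2,0,0,1,0,0],[2,2,2,2,0,0,1,0],[0,2,2,0,1,1,0,0],[1,2,2,0,2,2,1,0],[0,2,1,0,0,0,2,2],[2,0,0,0,1,1,1,0],[0,2,1,1,0,0,2,2]],
    [[2,2,0,0,2,1,0,2],[1,0,0,1,1,0,2,1],[2,0,0,1,1,0,1,0],[0,0,2,1,0,2,1,1],[0,1,2,2,1,1,2,2],[1,1,1,2,0,1,0,1],[1,2,2,1,0,0,0,0],[0,1,1,1,2,1,2,1]],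
    [[0,0,1,2,0,1,1,1],[2,2,2,0,0,1,1,2],[1,0,0,2,0,1,1,2],[0,2,2,0,0,1,0,1],[0,1,2,1,0,1,1,2],[0,2,2,2,1,1,0,0],[0,0,1,1,2,1,0,2],[1,1,2,2,1,0,0,2]],
    [[0,0,0,0,1,2,1,1],[1,2,0,1,2,0,1,2],[0,0,0,1,1,2,0,1],[0,2,2,0,0,1,2,2],[1,0,0,2,0,0,1,0],[0,2,0,2,2,0,0,0],[1,0,2,0,0,0,0,2],[1,2,1,0,0,1,0,1]],
    [[0,1,1,2,2,2,1,0],[1,2,0,0,1,0,0,0],[2,0,0,1,0,0,1,1],[0,2,1,0,0,0,0,2],[1,0,0,1,0,1,2,2],[2,1,0,2,2,1,2,0],[0,2,0,1,0,0,1,2],[0,1,0,0,1,1,1,1]],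
    [[2,1,2,1,0,2,0,1],[2,0,2,0,0,0,2,2],[2,2,0,0,2,0,2,1],[0,1,1,0,2,0,0,0],[0,0,1,1,2,1,2,2],[0,2,2,2,2,1,0,1],[0,0,2,1,1,1,2,1],[1,2,2,0,0,0,1,0]]]

/-- The standard element of each type, as reflection vectors. -/
def typeElt : List (List (List Nat)) :=
  [
    [[0,0,0,1,1,2,1,2],[2,2,0,1,0,0,0,1],[2,2,0,1,1,2,2,2],[1,1,0,1,0,0,1,1]],
    [[0,0,0,2,2,2,0,1],[1,1,1,2,1,1,1,1],[0,0,0,1,1,1,0,1],[1,0,2,0,2,1,0,2],[1,2,2,1,0,0,0,1],[0,0,1,0,1,0,1,2],[1,2,0,1,2,2,0,2],[2,0,2,2,0,2,2,0]],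
    [[0,1,2,0,1,2,0,1],[0,2,0,0,1,1,1,0]],
    [[1,0,0,1,0,0,0,2],[0,1,1,0,1,2,0,0],[2,1,2,0,0,1,2,1],[1,2,1,2,0,0,2,0]],
    [[0,0,0,2,1,1,2,2],[0,1,1,0,1,1,0,1]],
    [[2,1,2,1,0,1,2,2],[2,1,0,1,1,1,2,1],[0,2,1,0,0,2,0,2],[1,0,1,1,1,1,0,0]],
    [[2,0,0,1,2,2,2,0],[2,1,2,2,2,2,0,1],[1,2,1,2,1,2,2,2],[1,2,1,1,2,0,0,2]],
    [[2,0,2,2,2,1,0,0],[2,2,1,2,0,2,1,1],[0,2,2,2,1,1,1,2],[1,2,2,2,1,0,0,2]]]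

/-- Coset representatives of `Ω` in the isometry group. -/
def cosetElt : List (List (List Nat)) :=
  [
    [],
    [[1,0,0,0,1,0,0,0]],
    [[1,0,0,0,2,0,0,0]],
    [[1,0,0,0,1,0,0,0],[1,0,0,0,2,0,0,0]]]

/-- The thirteen class representatives. -/
def classElt : List (List (List Nat)) :=
  [
    [[0,0,0,2,0,0,2,2],[1,1,0,2,2,1,2,1],[1,1,0,2,0,0,1,2],[2,2,0,2,2,1,1,1]],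
    [[0,0,1,2,1,1,0,1],[1,2,2,1,0,0,0,1],[2,1,2,0,1,2,2,0],[1,1,1,0,2,2,1,1],[0,2,1,1,2,2,1,0],[0,1,1,0,2,1,0,1]],
    [[0,0,0,1,2,1,2,2],[1,2,1,2,0,2,2,2],[0,0,2,2,2,0,1,1],[1,2,0,2,2,0,1,1],[0,2,1,1,0,0,0,2],[0,2,1,0,2,2,0,2]],
    [[0,0,1,0,0,2,2,0],[2,0,2,0,0,2,2,2],[2,1,2,2,2,1,0,1],[0,2,1,1,1,0,1,1],[0,0,1,0,0,0,2,2],[1,2,0,0,1,0,0,1],[2,2,1,0,2,1,2,2],[0,2,0,0,0,2,0,2]],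
    [[0,0,0,2,0,0,2,2],[2,0,2,0,1,0,0,1],[1,1,0,1,1,0,1,0],[1,1,2,2,2,1,1,1],[2,1,2,0,0,0,2,0],[1,2,1,2,2,2,2,0]],
    [[0,1,0,0,2,2,2,0],[0,0,2,0,2,0,1,1]],
    [[0,1,1,1,1,1,2,2],[1,1,1,0,1,0,1,0],[2,1,1,0,1,1,2,0],[1,2,1,0,0,2,1,2]],
    [[2,0,1,1,1,0,0,0],[1,0,2,2,1,2,2,0],[2,0,1,2,0,1,1,2],[2,2,2,2,0,2,1,1]],
    [[0,0,0,2,1,1,2,2],[0,2,2,0,2,2,0,2]],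
    [[2,2,2,2,1,1,0,0],[2,1,1,1,2,1,2,0],[0,1,2,0,0,1,0,1],[1,0,0,2,0,0,1,2]],
    [[0,2,1,0,2,1,2,2],[1,1,1,1,1,1,2,0],[1,1,1,1,0,0,1,0],[0,0,0,2,2,0,1,2]],
    [[0,1,2,0,1,1,2,1],[1,0,0,0,1,2,0,0],[2,1,2,0,1,1,2,1],[0,2,1,2,2,1,2,2]],
    [[0,1,0,1,1,2,1,0],[0,0,2,0,2,0,2,2],[1,1,0,1,1,1,0,0],[1,1,1,0,2,1,1,2]]]

/-- The type of each class. -/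
def classType : List Nat :=
  [0,1,1,1,1,2,3,3,4,5,5,6,7]

/-- The coset of each class. -/
def classCoset : List Nat :=
  [0,0,1,2,3,0,0,2,0,0,1,0,0]

/-- The class of each coset conjugate of a standard element. -/
def tableClass : List (List Nat) :=
  [
    [0,0,0,0],
    [1,2,3,4],
    [5,5,5,5],
    [6,6,7,7],
    [8,8,8,8],
    [9,10,9,10],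
    [11,11,11,11],
    [12,12,12,12]]

/-- The conjugating elements for `tableClass`. -/
def tableWit : List (List (List (List Nat))) :=
  [
    [[],[[0,1,2,0,2,0,2,0],[0,2,2,1,0,1,0,2],[1,0,0,2,2,1,1,1],[1,0,1,0,2,2,2,2],[0,0,0,1,2,1,0,1],[2,2,0,0,0,1,2,2],[2,0,0,0,1,1,0,1],[2,1,1,1,1,1,2,2]],[[1,0,1,0,0,0,1,2],[2,2,0,1,0,0,2,1],[0,0,1,2,0,1,1,0],[2,0,0,1,0,2,1,1],[0,2,0,2,0,0,2,1],[2,1,0,2,2,2,0,1]],[[2,0,0,2,0,1,0,2],[1,1,2,0,0,0,2,1],[1,2,2,1,1,0,2,2],[1,1,0,1,2,0,2,0],[2,0,1,2,0,2,2,0],[1,0,0,1,1,0,2,1],[2,2,2,0,1,0,1,1],[2,0,2,1,0,0,2,1]]],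
    [[],[],[],[]],
    [[],[[1,2,2,1,2,0,1,1],[0,2,1,2,1,2,2,2],[0,0,2,2,0,2,2,0],[1,0,2,0,1,0,0,0],[2,1,1,2,1,1,0,2],[0,2,0,1,0,2,1,1],[1,0,0,2,1,2,0,0],[1,1,1,0,0,0,1,1]],[[2,0,1,1,0,2,1,1],[2,0,2,0,1,1,0,2],[0,1,1,2,2,0,2,1],[1,2,2,2,1,1,1,0],[2,2,0,1,0,0,0,1],[1,1,0,0,2,0,1,2]],[[1,2,2,2,1,1,1,0],[1,0,0,1,1,1,1,0],[2,2,2,0,2,1,1,2],[1,2,1,0,2,1,1,0],[1,1,1,0,2,2,1,2],[2,2,0,0,1,1,1,1],[0,0,0,2,2,0,0,1],[1,1,1,2,2,2,1,1],[0,2,0,2,0,0,1,1],[2,1,2,1,2,1,0,2]]],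
    [[],[[2,1,2,0,1,2,0,0],[0,1,0,0,1,2,1,0],[0,2,1,0,0,1,0,2],[2,2,2,2,1,0,2,2],[0,1,0,1,1,2,1,0],[1,1,0,0,1,1,1,0]],[],[[2,1,2,0,2,2,2,0],[1,2,1,1,0,2,2,1],[1,1,2,1,1,1,1,1],[0,1,0,1,2,0,2,1],[2,0,1,1,1,2,2,1],[0,1,0,2,2,0,1,1],[2,0,0,0,1,1,1,1],[1,2,0,2,1,1,1,2]]],
    [[],[[0,0,0,2,1,2,0,1],[0,2,0,0,2,1,2,0],[1,0,1,1,0,1,0,2],[2,0,2,0,0,1,1,2],[0,0,0,1,1,2,0,1],[0,1,1,2,1,2,1,2],[0,0,1,1,2,0,0,2],[0,2,0,1,2,0,0,1],[1,0,2,0,1,2,0,1],[1,2,1,0,1,2,0,0]],[[2,2,0,1,0,1,1,0],[2,2,2,1,0,0,1,2],[0,0,2,0,0,0,2,1],[1,0,0,2,2,2,2,0],[0,0,1,0,1,0,2,1],[1,2,0,2,2,2,2,1],[0,2,1,1,1,1,0,0],[0,2,1,0,2,1,0,2]],[[2,1,2,0,0,0,2,2],[2,0,1,0,1,2,2,1],[1,1,0,1,0,0,2,2],[1,0,2,0,0,0,1,0],[0,0,1,2,1,2,2,0],[2,2,2,1,2,2,0,0]]],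
    [[],[],[[1,0,2,2,2,1,2,2],[1,2,1,1,0,0,1,1],[0,2,2,0,0,1,0,1],[2,1,1,2,2,0,1,0],[0,2,0,0,2,1,2,0],[2,1,0,0,0,2,0,2],[1,2,1,1,0,0,0,1],[0,2,0,1,2,1,2,0]],[[0,2,1,0,0,1,2,0],[2,1,0,1,1,1,1,1],[2,2,1,2,0,1,2,2],[0,0,0,1,2,0,0,1],[2,2,2,2,2,1,1,1],[2,1,0,1,0,2,0,2],[2,0,1,1,0,2,2,2],[2,2,2,2,2,0,2,0]]],
    [[],[[1,2,0,2,2,1,2,2],[2,2,0,0,0,1,0,1],[0,1,2,2,2,1,0,2],[1,1,2,2,0,1,0,0],[2,2,1,0,1,0,0,0],[0,1,1,1,0,0,2,0],[2,1,2,1,1,2,2,0],[2,1,2,0,1,2,0,1]],[[0,0,1,2,1,2,0,1],[0,1,1,1,1,1,0,0],[0,2,0,1,1,2,1,1],[2,2,0,2,1,2,1,1],[2,1,1,2,1,1,2,0],[0,0,1,1,1,1,0,1]],[[1,2,1,1,1,1,2,0],[2,0,0,1,1,1,0,2],[2,1,2,1,1,0,0,2],[0,2,2,2,0,1,2,1],[2,0,0,1,2,2,2,1],[0,1,1,1,1,1,0,0],[0,0,1,1,2,0,2,0],[2,2,1,1,2,2,1,1]]],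
    [[],[[2,0,0,0,2,0,2,2],[2,1,2,2,2,2,1,1],[1,0,0,0,1,0,2,1],[2,0,2,0,0,2,2,1],[2,2,0,0,2,2,1,2],[1,2,0,0,0,1,1,2]],[[1,2,0,2,0,2,2,0],[2,0,2,2,2,1,2,0],[0,0,1,1,2,1,2,2],[1,2,0,0,1,0,1,1],[1,2,2,1,1,0,2,0],[1,1,1,2,2,1,1,0]],[[0,0,2,1,1,1,1,0],[0,0,1,1,1,0,0,2],[1,1,1,1,2,2,1,2],[1,1,2,2,0,2,2,1],[1,1,1,2,1,2,1,0],[1,1,1,2,1,0,1,0]]]]

/-- The action of the graph automorphism on the classes. -/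
def gamPerm : List Nat :=
  [0,2,1,4,3,5,6,7,8,10,9,11,12]

/-- The conjugating elements for `gamPerm`. -/
def gamWit : List (List (List Nat)) :=
  [
    [[0,1,2,0,0,0,1,2],[1,2,0,0,2,1,2,1],[1,2,0,2,1,1,1,1],[2,0,2,1,0,2,2,1],[2,2,0,2,1,0,0,0],[1,2,1,1,1,0,0,0]],
    [[0,1,0,2,2,0,0,1],[2,2,0,0,0,1,1,1],[1,0,2,0,2,0,0,0],[1,2,1,1,1,1,1,0],[1,2,0,0,0,2,2,2],[1,1,2,1,0,0,1,2],[2,0,1,2,0,1,1,0],[0,1,0,0,0,2,2,2]],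
    [[1,1,2,1,2,0,2,2],[2,0,2,2,1,2,2,1],[2,0,0,0,1,2,1,1],[1,0,2,1,1,1,0,1],[1,1,2,2,0,1,1,1],[1,1,2,1,2,1,0,1],[1,2,1,2,0,1,2,0],[0,2,1,1,2,1,2,1]],
    [[1,2,2,1,0,0,0,2],[1,2,2,1,2,1,0,1],[2,2,2,2,1,0,0,1],[2,2,2,0,0,0,2,2],[0,2,1,2,0,0,2,1],[2,2,0,1,0,2,0,0],[2,2,2,1,0,2,2,2],[0,2,0,1,2,1,0,2]],
    [[2,0,0,1,1,2,1,2],[2,1,1,2,1,0,0,0],[0,2,2,2,2,2,1,2],[1,2,1,1,1,0,2,1],[1,1,1,1,0,0,0,2],[1,0,0,1,1,1,2,0]],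
    [[0,0,2,0,0,0,1,2],[1,1,2,2,1,1,0,0],[0,1,0,0,2,1,0,0],[2,0,1,0,1,0,2,1],[0,0,1,0,1,0,1,2],[2,2,0,2,2,2,0,0],[2,0,1,2,1,2,0,1],[2,1,1,2,2,2,2,0]],
    [[2,1,0,0,2,1,0,1],[1,2,1,0,1,1,1,1],[2,1,1,0,2,2,2,1],[0,2,0,0,1,2,0,2],[1,2,0,1,0,2,1,0],[1,2,2,2,2,2,1,1]],
    [[2,2,1,2,2,1,2,1],[1,2,1,2,2,2,2,1],[1,1,0,0,0,2,2,1],[1,0,0,1,1,1,0,1],[0,0,0,2,2,1,1,1],[0,2,1,2,1,0,0,1],[0,2,1,1,0,2,0,1],[2,0,1,0,0,0,2,0]],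
    [[0,1,2,0,0,1,0,1],[1,1,0,1,0,2,1,0],[0,2,1,0,2,2,1,1],[0,0,2,2,2,0,0,2],[1,1,1,1,0,2,1,1],[0,0,1,1,0,1,0,2],[1,0,0,2,0,2,1,1],[2,1,0,2,0,1,2,0]],
    [[1,1,2,0,2,2,2,1],[0,2,2,0,0,2,2,0],[1,2,0,1,0,0,2,2],[2,0,1,0,0,1,2,1],[2,1,1,0,1,2,0,1],[1,1,0,0,2,2,1,2]],
    [[1,0,1,1,2,2,2,0],[0,0,2,0,2,2,2,2],[2,2,2,2,2,1,2,0],[1,2,0,0,1,2,1,0],[2,2,0,1,2,1,1,2],[2,0,2,2,0,0,2,0],[0,2,1,0,2,2,1,2],[0,0,2,1,1,0,2,1]],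
    [[2,2,1,1,2,1,2,2],[2,0,2,2,0,0,1,1],[2,2,1,1,0,1,0,0],[1,1,2,0,2,2,0,0],[2,1,2,0,0,1,2,2],[0,2,2,1,2,0,0,1],[1,2,1,1,1,1,2,2],[0,1,1,2,2,0,0,2]],
    [[2,2,0,0,0,1,2,1],[2,1,1,0,1,0,2,0],[0,2,1,0,2,1,2,1],[1,1,1,2,2,0,2,0],[0,0,2,1,2,0,0,1],[2,0,2,0,1,1,1,1],[1,0,2,0,2,2,1,2],[2,0,2,0,1,1,0,0]]]

/-- The action of triality on the classes. -/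
def tauPerm : List Nat :=
  [0,1,5,8,4,2,10,7,3,9,6,11,12]

/-- The conjugating elements for `tauPerm`. -/
def tauWit : List (List (List Nat)) :=
  [
    [[0,0,2,1,1,1,2,0],[1,1,0,2,1,2,1,2],[1,0,1,2,2,0,1,2],[1,0,0,1,0,0,1,1],[1,2,1,2,0,0,1,0],[0,0,1,1,1,0,0,1],[2,1,2,1,2,2,0,2],[1,2,2,0,2,1,2,1]],
    [[1,1,0,0,2,0,1,0],[2,2,1,2,2,2,2,0],[2,1,2,1,1,1,1,2],[2,2,0,2,2,1,1,1],[0,0,1,2,0,0,1,0],[0,2,0,2,2,2,0,0]],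
    [[1,0,1,0,0,1,2,2],[1,1,1,1,2,2,0,1],[0,2,0,0,0,1,1,1],[0,1,1,1,1,0,2,0],[0,2,0,1,0,0,2,1],[1,2,0,2,2,1,2,0],[0,0,1,0,0,0,1,0],[0,0,1,1,0,1,2,0],[0,1,1,2,1,2,2,2],[0,1,1,1,1,1,1,2]],
    [[0,0,1,0,1,2,1,1],[1,0,2,1,1,1,0,0],[0,0,2,1,1,0,2,1],[1,2,0,1,0,2,2,1],[1,0,0,2,0,2,1,1],[1,0,0,1,2,1,1,0],[1,1,0,1,2,0,0,0],[2,2,1,0,0,0,2,0]],
    [[0,0,1,1,1,1,1,1],[0,1,2,1,1,0,2,0],[0,1,2,0,0,0,1,1],[1,0,2,2,0,2,1,0],[0,1,0,0,2,1,1,0],[0,2,0,2,0,0,0,1]],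
    [[2,1,0,1,1,1,2,2],[0,2,0,2,1,2,1,0],[0,2,0,0,0,2,0,1],[0,0,0,2,1,2,1,2],[1,2,2,1,2,2,1,0],[2,2,0,1,1,0,0,0],[0,2,1,2,1,1,0,1],[0,1,2,1,0,1,0,1]],
    [[2,0,2,0,1,1,0,2],[1,0,1,1,0,2,2,0],[2,1,1,1,2,0,1,0],[2,0,1,2,1,1,1,2],[1,2,2,2,2,0,0,1],[0,1,0,1,1,0,1,1],[2,1,2,1,2,2,1,2],[2,2,2,1,1,2,2,1]],
    [[0,0,2,1,0,0,2,1],[2,2,2,0,0,1,0,1],[2,0,1,2,0,0,1,2],[0,2,1,0,0,1,0,2],[2,1,0,2,1,0,2,1],[0,2,2,1,1,2,0,0]],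
    [[1,2,2,1,1,0,1,2],[0,2,1,1,2,2,0,1],[0,1,1,1,1,2,1,1],[0,0,1,1,0,1,0,2],[0,0,0,1,1,0,2,1],[1,0,0,2,2,1,2,0],[0,0,0,2,0,1,0,2],[1,0,0,2,1,0,2,0],[1,0,1,2,1,0,2,1],[1,0,2,0,1,2,2,0]],
    [[2,0,1,1,0,2,2,2],[1,1,0,1,1,1,2,0],[0,0,0,1,1,2,2,1],[2,1,0,0,0,2,1,1],[1,2,1,1,0,1,0,0],[0,0,1,2,2,0,2,1],[2,2,1,1,1,1,0,0],[1,0,1,1,1,0,0,1]],
    [[2,1,2,1,1,1,1,2],[1,2,0,0,1,0,1,0],[2,0,0,0,2,2,1,0],[2,0,0,2,2,2,0,0],[2,0,1,0,2,0,0,0],[0,2,1,2,2,0,1,2],[2,2,1,1,1,1,2,1],[0,0,0,1,1,0,0,2]],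
    [[1,1,1,0,1,2,1,2],[0,0,1,2,1,2,1,0],[2,2,2,0,2,1,1,2],[1,2,1,1,0,2,0,0],[1,1,0,2,0,2,0,1],[0,0,0,1,2,2,0,2],[0,1,1,2,2,2,2,0],[0,0,0,1,1,2,2,1]],
    [[0,2,0,2,0,2,1,0],[2,0,0,0,2,0,1,0],[0,1,1,2,1,0,1,0],[1,0,2,0,2,0,0,0],[0,1,0,0,2,2,2,0],[1,0,0,0,1,1,0,0],[1,0,1,0,2,0,2,2],[1,1,2,1,2,2,2,2]]]

/-- The second components of the triples. -/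
def tauSnd : List (List (List Nat)) :=
  [
    [[0,0,0,1,2,1,2,2],[0,2,2,2,1,1,0,0],[0,2,0,0,2,1,1,2],[0,0,2,1,0,2,0,2]],
    [[0,0,0,2,2,0,0,1],[0,1,2,2,0,1,1,1],[1,1,0,0,0,2,1,1],[0,0,2,0,1,2,1,1],[1,0,1,0,2,0,2,2],[0,0,2,0,1,0,2,0]],
    [[0,0,2,1,1,0,0,2],[2,0,0,2,1,2,2,0]],
    [[1,0,0,1,1,2,2,0],[2,0,2,0,1,1,1,1]],
    [[0,0,0,2,2,0,0,2],[1,1,2,1,0,0,2,1],[2,0,2,1,2,2,1,1],[1,1,0,0,1,1,2,2],[0,0,1,1,0,1,2,2],[0,1,0,0,1,2,0,2],[0,0,2,0,1,1,1,1],[0,1,0,2,0,0,0,2]],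
    [[0,0,0,1,0,1,1,1],[2,1,2,0,1,0,1,1],[1,1,0,0,2,2,0,1],[2,0,1,0,0,0,1,0],[0,0,0,2,1,0,2,1],[0,0,0,1,2,2,1,1],[2,2,0,2,2,0,1,2],[1,1,0,0,2,2,1,1]],
    [[1,1,2,0,1,2,2,1],[1,1,1,2,0,0,0,2],[0,0,2,1,1,0,2,0],[0,2,2,2,2,0,2,0]],
    [[2,0,0,2,1,0,2,0],[1,1,2,0,1,2,1,2],[0,0,0,1,0,2,0,1],[2,2,2,1,1,0,1,0],[0,0,0,1,0,2,0,2],[0,1,2,1,2,2,1,1],[2,0,1,1,0,0,2,0],[2,2,2,2,1,2,1,0]],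
    [[0,0,0,2,1,1,2,1],[1,0,2,1,1,1,0,0],[1,1,0,1,0,1,1,0],[0,0,0,2,1,1,1,2],[0,1,1,2,1,0,2,0],[1,0,2,0,0,1,2,2]],
    [[0,2,2,0,1,1,1,0],[1,0,1,2,2,0,1,2],[2,2,0,2,1,0,2,1],[2,0,1,1,1,2,2,0]],
    [[1,0,0,1,2,0,0,0],[1,2,1,0,0,0,2,0],[2,0,0,2,1,1,1,0],[0,1,2,0,0,0,1,1]],
    [[1,1,1,1,2,0,1,2],[0,1,1,0,1,0,2,1],[0,0,1,0,0,2,1,2],[1,2,1,1,0,1,1,1],[1,2,1,2,2,2,0,1],[0,0,1,1,2,0,0,2]],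
    [[2,0,2,1,2,0,2,2],[1,1,1,0,1,1,2,2],[2,1,1,2,1,2,2,1],[0,0,1,2,0,0,2,0]]]

/-- The third components of the triples. -/
def tauThd : List (List (List Nat)) :=
  [
    [[0,0,2,2,2,1,1,0],[2,2,2,2,2,1,1,0],[0,0,0,2,0,2,0,1],[2,0,2,1,1,0,2,1],[2,2,0,1,0,1,0,2],[0,1,2,2,1,1,2,0]],
    [[1,0,0,1,2,1,1,0],[2,0,1,0,2,1,1,1]],
    [[0,0,0,2,2,0,1,1],[2,1,0,0,1,2,2,1],[0,0,1,2,2,2,1,0],[0,0,1,2,2,1,0,1],[0,0,0,1,1,1,0,2],[2,1,2,1,0,0,0,1],[1,2,0,0,2,1,1,0],[0,0,1,1,0,1,2,0]],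
    [[0,0,1,1,2,2,1,0],[1,1,1,2,0,0,2,1],[0,0,2,2,1,2,0,2],[0,0,2,2,2,1,2,2],[2,2,1,0,2,1,2,1],[0,0,1,1,0,1,1,0]],
    [[1,0,1,0,2,2,2,2],[2,0,1,2,0,0,0,2]],
    [[0,0,0,2,0,1,2,2],[1,0,0,1,0,1,2,2],[1,0,1,2,1,2,1,0],[0,0,2,1,2,0,0,1],[0,0,0,1,1,1,1,1],[1,2,2,2,2,0,1,2],[1,0,2,0,0,0,2,2],[0,1,0,0,0,2,0,2]],
    [[2,0,0,2,2,0,0,0],[1,1,0,0,0,1,2,0],[2,0,1,2,0,0,0,2],[2,0,0,0,2,0,1,0]],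
    [[0,1,2,2,2,2,0,0],[1,0,2,0,2,2,0,0],[0,1,1,1,1,2,2,1],[1,0,1,0,2,0,0,1]],
    [[0,0,0,1,1,0,0,2],[2,2,2,0,1,2,2,1],[2,1,0,2,1,2,2,0],[2,0,1,2,2,2,0,0],[2,0,0,1,1,2,1,2],[1,0,0,2,2,1,0,0]],
    [[0,1,2,0,1,0,1,0],[2,0,0,2,1,1,1,0],[0,2,1,0,2,2,1,0],[0,2,1,0,0,0,2,2]],
    [[1,2,0,0,2,1,1,0],[2,1,0,2,2,0,0,0],[1,0,1,0,1,2,0,2],[2,2,0,1,2,1,0,1]],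
    [[2,2,1,1,0,0,2,2],[0,1,2,2,0,2,0,1],[0,0,0,2,2,2,1,1],[0,1,2,0,1,0,1,2],[0,0,0,1,0,2,2,2],[0,2,2,1,1,0,1,0],[0,0,0,2,2,0,0,1],[0,2,1,2,2,2,2,2],[0,2,0,2,1,0,2,2],[0,0,2,2,1,1,0,1]],
    [[2,2,1,2,1,0,0,0],[0,2,1,1,2,2,2,2],[2,2,2,1,2,2,1,0],[1,1,0,2,2,0,1,1]]]

end CfsgLib.O8Three88
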